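import Groth.Agent.Lib.DefAut3.Fwd

/-!
# Automorphisms of split deformations from infinitesimal automorphisms
-/

set_option autoImplicit false
set_option linter.style.haveILetI false

universe u

open CategoryTheory CategoryTheory.Limits AlgebraicGeometry TopologicalSpace IsLocalRing

namespace Groth.Agent.DefAut3

open ArtFun

variable {k : Type u} [Field k] {X : Scheme.{u}} {x : X ⟶ Spec (CommRingCat.of k)} {A : Art k k}
  (ξ : DefSch X x A) (pr : ξ.total ⟶ X) (ε : A) (hε : ε * ε = 0)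

theorem appLE_id {Z : Scheme.{u}} (U : Z.Opens) (e : U ≤ (𝟙 Z : Z ⟶ Z) ⁻¹ᵁ U) :
    (𝟙 Z : Z ⟶ Z).appLE U U e = 𝟙 _ := by
  rw [Scheme.Hom.appLE]
  erw [Category.id_comp]
  exact Z.presheaf.map_id _

section

variable (U : X.Opens) (D : Γ(X, U) →+ Γ(X, U)) (hD : ∀ a b, D (a * b) = a * D b + b * D a)

/-- The twisted inclusion `b ↦ b + ε D b`. -/
noncomputable def twist : Γ(X, U) →+* Γ(ξ.total, pr ⁻¹ᵁ U) where
  toFun b := pr.app U b + ThickAff3.str ξ.f (pr ⁻¹ᵁ U) ε * pr.app U (D b)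
  map_zero' := by simp
  map_add' a b := by rw [map_add D, map_add, map_add]; ring
  map_one' := by
    have h : D 1 = 0 := by simpa using hD 1 1
    rw [h]; simp
  map_mul' a b := by
    have hsq : ThickAff3.str ξ.f (pr ⁻¹ᵁ U) ε * ThickAff3.str ξ.f (pr ⁻¹ᵁ U) ε = 0 := by
      rw [← map_mul, hε, map_zero]
    rw [hD, map_add, map_mul, map_mul, map_mul]
    linear_combination (-(pr.app U (D a) * pr.app U (D b))) * hsq

end

include hε in
/-- A morphism out of a split deformation twisted by a derivation. -/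
theorem exists_twist [IsSeparated x] [IsAffineHom pr] (D : ∀ U : X.Opens, Γ(X, U) →+ Γ(X, U))
    (hD : ∀ U a b, D U (a * b) = a * D U b + b * D U a)
    (hres : ∀ (U V : X.Opens) (h : V ≤ U) a, X.presheaf.map (homOfLE h).op (D U a) = D V (X.presheaf.map (homOfLE h).op a)) :
    ∃ g : ξ.total ⟶ X, ∀ U : X.affineOpens, (U.2.preimage pr).fromSpec ≫ g =
      Spec.map (CommRingCat.ofHom (twist ξ pr ε hε U.1 (D U.1) (hD U.1))) ≫ U.2.fromSpec := by
  let W : X.affineOpens → ξ.total.Opens := fun U => pr ⁻¹ᵁ U.1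
  have hcov : ⨆ U, W U = ⊤ := by
    rw [← Scheme.Hom.preimage_iSup, iSup_affineOpens_eq_top]; rfl
  let m : ∀ U : X.affineOpens, (W U : Scheme.{u}) ⟶ X := fun U =>
    (U.2.preimage pr).isoSpec.hom ≫
      Spec.map (CommRingCat.ofHom (twist ξ pr ε hε U.1 (D U.1) (hD U.1))) ≫ U.2.fromSpec
  have hm : ∀ (U V : X.affineOpens) (h : V.1 ≤ U.1),
      ξ.total.homOfLE (pr.preimage_mono h) ≫ m U = m V := by
    intro U V h
    have e1 : ξ.total.homOfLE (pr.preimage_mono h) ≫ (U.2.preimage pr).isoSpec.hom =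
        (V.2.preimage pr).isoSpec.hom ≫ Spec.map (ξ.total.presheaf.map (homOfLE (pr.preimage_mono h)).op) := by
      rw [← cancel_mono (U.2.preimage pr).fromSpec, Category.assoc, Category.assoc,
        IsAffineOpen.map_fromSpec _ (V.2.preimage pr), IsAffineOpen.isoSpec_hom_fromSpec,
        IsAffineOpen.isoSpec_hom_fromSpec, Scheme.homOfLE_ι]
    have e2 : CommRingCat.ofHom (twist ξ pr ε hε U.1 (D U.1) (hD U.1)) ≫
        ξ.total.presheaf.map (homOfLE (pr.preimage_mono h)).op =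
        X.presheaf.map (homOfLE h).op ≫ CommRingCat.ofHom (twist ξ pr ε hε V.1 (D V.1) (hD V.1)) := by
      refine CommRingCat.hom_ext (RingHom.ext fun b => ?_)
      have hn : ∀ t, pr.app V.1 (X.presheaf.map (homOfLE h).op t) =
          ξ.total.presheaf.map (homOfLE (pr.preimage_mono h)).op (pr.app U.1 t) := fun t => by
        rw [← ConcreteCategory.comp_apply, ← ConcreteCategory.comp_apply, Scheme.Hom.naturality]
        rfl
      show ξ.total.presheaf.map (homOfLE (pr.preimage_mono h)).op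
          (pr.app U.1 b + ThickAff3.str ξ.f _ ε * pr.app U.1 (D U.1 b)) =
        pr.app V.1 (X.presheaf.map (homOfLE h).op b) +
          ThickAff3.str ξ.f _ ε * pr.app V.1 (D V.1 (X.presheaf.map (homOfLE h).op b))
      rw [map_add, map_mul, ← hres U.1 V.1 h b, hn, hn]
      congr 2
      exact ThickAff3.res_str ξ.f (pr.preimage_mono h) ε
    show _ ≫ (U.2.preimage pr).isoSpec.hom ≫ _ ≫ _ = _
    rw [reassoc_of% e1, ← Spec.map_comp_assoc, e2, Spec.map_comp_assoc, IsAffineOpen.map_fromSpec U.2 V.2]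
  let 𝒰 := Scheme.openCoverOfIsOpenCover ξ.total W hcov
  refine ⟨𝒰.glueMorphisms m fun (U V : X.affineOpens) => ?_, fun U => ?_⟩
  · change pullback.fst (W U).ι (W V).ι ≫ m U = pullback.snd (W U).ι (W V).ι ≫ m V
    have hsep : X.IsSeparated := ⟨by
      rw [show terminal.from X = x ≫ terminal.from _ from terminal.hom_ext _ _]; infer_instance⟩
    let UV : X.affineOpens := ⟨U.1 ⊓ V.1, U.2.inf V.2⟩
    have hW : W U ⊓ W V = W UV := by rfl
    have hp := isPullback_opens_inf (W U) (W V)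
    rw [← cancel_epi hp.isoPullback.hom, IsPullback.isoPullback_hom_fst_assoc,
      IsPullback.isoPullback_hom_snd_assoc]
    exact (hm U UV inf_le_left).trans (hm V UV inf_le_right).symm
  · rw [← IsAffineOpen.isoSpec_inv_ι, Category.assoc]
    change _ ≫ 𝒰.f U ≫ _ = _
    rw [Scheme.Cover.ι_glueMorphisms]
    show _ ≫ (U.2.preimage pr).isoSpec.hom ≫ _ = _
    rw [Iso.inv_hom_id_assoc]

include hε in
/-- On a split deformation with nonzero `ε`, rigidity of automorphisms kills all derivations. -/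
theorem der_eq_zero [IsSeparated x] [IsAffineHom pr] (hsq : IsPullback pr ξ.f x (Art.specMap (Art.ofBase A)))
    (hipr : ξ.i ≫ pr = 𝟙 X) (hεm : A.res ε = 0) (hann : ∀ r, ε * r = 0 → r ∈ maximalIdeal A)
    (D : ∀ U : X.Opens, Γ(X, U) →+ Γ(X, U))
    (hD : ∀ U a b, D U (a * b) = a * D U b + b * D U a)
    (hconst : ∀ U c, D U (ThickAff3.str x U c) = 0)
    (hres : ∀ (U V : X.Opens) (h : V ≤ U) a, X.presheaf.map (homOfLE h).op (D U a) = D V (X.presheaf.map (homOfLE h).op a))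
    (hrig : ∀ e : ξ.Iso ξ, e.iso.hom = 𝟙 ξ.total) (U : X.affineOpens) (b : Γ(X, U.1)) : D U.1 b = 0 := by
  have hD' : ∀ U a b, (-D U) (a * b) = a * (-D U) b + b * (-D U) a := fun U a b => by
    simp only [AddMonoidHom.neg_apply, hD]; ring
  obtain ⟨g, hg⟩ := exists_twist ξ pr ε hε D hD hres
  obtain ⟨g', hg'⟩ := exists_twist ξ pr ε hε (fun U => -D U) hD' fun U V h a => by
    simp only [AddMonoidHom.neg_apply, map_neg, hres U V h]
  have hover : ∀ (E : ∀ U : X.Opens, Γ(X, U) →+ Γ(X, U)) (hE : ∀ U a b, E U (a * b) = a * E U b + b * E U a)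
      (_ : ∀ U c, E U (ThickAff3.str x U c) = 0) (h : ξ.total ⟶ X)
      (_ : ∀ U : X.affineOpens, (U.2.preimage pr).fromSpec ≫ h =
        Spec.map (CommRingCat.ofHom (twist ξ pr ε hε U.1 (E U.1) (hE U.1))) ≫ U.2.fromSpec),
      h ≫ x = ξ.f ≫ Art.specMap (Art.ofBase A) ∧ ξ.i ≫ h = 𝟙 X ∧
        ∀ (U : X.affineOpens), ∃ hle : pr ⁻¹ᵁ U.1 ≤ h ⁻¹ᵁ U.1,
          h.appLE U.1 (pr ⁻¹ᵁ U.1) hle = CommRingCat.ofHom (twist ξ pr ε hε U.1 (E U.1) (hE U.1)) := by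
    intro E hE hEc h hh
    refine ⟨?_, ?_, fun U => ?_⟩
    · refine Eq.trans ?_ hsq.w
      refine Scheme.Cover.hom_ext (Scheme.openCoverOfIsOpenCover ξ.total (fun U : X.affineOpens => pr ⁻¹ᵁ U.1)
        (by rw [TopologicalSpace.IsOpenCover, ← Scheme.Hom.preimage_iSup, iSup_affineOpens_eq_top]; rfl)) _ _
        (fun (U : X.affineOpens) => ?_)
      change (pr ⁻¹ᵁ U.1).ι ≫ h ≫ x = (pr ⁻¹ᵁ U.1).ι ≫ pr ≫ x
      rw [← cancel_epi (U.2.preimage pr).isoSpec.inv, IsAffineOpen.isoSpec_inv_ι_assoc,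
        IsAffineOpen.isoSpec_inv_ι_assoc, reassoc_of% (hh U), ← IsAffineOpen.SpecMap_appLE_fromSpec_assoc pr U.2
          (U.2.preimage pr) le_rfl, ← IsAffineOpen.SpecMap_appLE_fromSpec x (isAffineOpen_top _) U.2 le_top,
        ← Spec.map_comp_assoc, ← Spec.map_comp_assoc]
      refine congrArg (fun m => Spec.map m ≫ _) (CommRingCat.hom_ext (RingHom.ext fun c => ?_))
      show pr.app U.1 (x.appLE ⊤ U.1 le_top c) + ThickAff3.str ξ.f _ ε * pr.app U.1 (E U.1 (x.appLE ⊤ U.1 le_top c)) =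
        pr.appLE U.1 (pr ⁻¹ᵁ U.1) le_rfl (x.appLE ⊤ U.1 le_top c)
      have := hEc U.1 ((Scheme.ΓSpecIso (CommRingCat.of k)).hom c)
      rw [show ThickAff3.str x U.1 ((Scheme.ΓSpecIso (CommRingCat.of k)).hom c) = x.appLE ⊤ U.1 le_top c from
        congrArg (fun φ : Γ(Spec (CommRingCat.of k), ⊤) ⟶ Γ(X, U.1) => φ.hom c)
          (Iso.hom_inv_id_assoc (Scheme.ΓSpecIso (CommRingCat.of k)) (x.appLE ⊤ U.1 le_top))] at this
      rw [this, map_zero, mul_zero, add_zero, ← Scheme.Hom.app_eq_appLE]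
    · refine Scheme.Cover.hom_ext (Scheme.openCoverOfIsOpenCover X (fun U : X.affineOpens => U.1)
        (iSup_affineOpens_eq_top _)) _ _ (fun (U : X.affineOpens) => ?_)
      change U.1.ι ≫ ξ.i ≫ h = U.1.ι ≫ 𝟙 X
      have hle : U.1 ≤ ξ.i ⁻¹ᵁ (pr ⁻¹ᵁ U.1) := fun p hp => by
        show pr (ξ.i p) ∈ U.1
        rw [← Scheme.Hom.comp_apply, hipr]; exact hp
      rw [← cancel_epi U.2.isoSpec.inv, IsAffineOpen.isoSpec_inv_ι_assoc, IsAffineOpen.isoSpec_inv_ι_assoc,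
        Category.comp_id, ← IsAffineOpen.SpecMap_appLE_fromSpec_assoc ξ.i (U.2.preimage pr) U.2 hle, hh U,
        ← Spec.map_comp_assoc]
      have h1 : pr.appLE U.1 (pr ⁻¹ᵁ U.1) le_rfl ≫ ξ.i.appLE (pr ⁻¹ᵁ U.1) U.1 hle = 𝟙 _ := by
        rw [Scheme.Hom.appLE_comp_appLE]
        simp only [hipr]
        exact appLE_id _ _
      rw [show CommRingCat.ofHom (twist ξ pr ε hε U.1 (E U.1) (hE U.1)) ≫ ξ.i.appLE (pr ⁻¹ᵁ U.1) U.1 hle = 𝟙 _ from
        CommRingCat.hom_ext (RingHom.ext fun c => by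
          show ξ.i.appLE _ _ hle (pr.app U.1 c + ThickAff3.str ξ.f _ ε * pr.app U.1 (E U.1 c)) = c
          have h2 : ξ.i.appLE (pr ⁻¹ᵁ U.1) U.1 hle (ThickAff3.str ξ.f _ ε) = 0 := by
            show X.presheaf.map (homOfLE hle).op (ξ.i.app _ _) = 0
            rw [i_app_str, hεm, map_zero, map_zero]
          rw [map_add, map_mul, h2, zero_mul, add_zero, Scheme.Hom.app_eq_appLE]
          exact congrArg (fun m : Γ(X, U.1) ⟶ Γ(X, U.1) => m.hom c) h1), Spec.map_id]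
      exact Category.id_comp _
    · have hle : pr ⁻¹ᵁ U.1 ≤ h ⁻¹ᵁ U.1 := fun p hp => by
        obtain ⟨q, rfl⟩ : ∃ q, (U.2.preimage pr).fromSpec q = p := by
          have := (U.2.preimage pr).range_fromSpec.ge hp
          exact this
        show h ((U.2.preimage pr).fromSpec q) ∈ U.1
        rw [← Scheme.Hom.comp_apply, hh U, Scheme.Hom.comp_apply]
        exact U.2.range_fromSpec.le ⟨_, rfl⟩
      refine ⟨hle, Spec.map_injective ((cancel_mono U.2.fromSpec).1 ?_)⟩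
      rw [IsAffineOpen.SpecMap_appLE_fromSpec h U.2 (U.2.preimage pr) hle, hh U]
  obtain ⟨hg1, hg2, hg3⟩ := hover D hD hconst g hg
  obtain ⟨hg1', hg2', hg3'⟩ := hover (fun U => -D U) hD' (fun U c => by
    simp only [AddMonoidHom.neg_apply, hconst, neg_zero]) g' hg'
  let φ := hsq.lift g ξ.f hg1
  let φ' := hsq.lift g' ξ.f hg1'
  have hcomp : ∀ (E : ∀ U : X.Opens, Γ(X, U) →+ Γ(X, U)) (hE : ∀ U a b, E U (a * b) = a * E U b + b * E U a)
      (hE' : ∀ U a b, (-E U) (a * b) = a * (-E U) b + b * (-E U) a) (h h' : ξ.total ⟶ X)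
      (e : h ≫ x = ξ.f ≫ Art.specMap (Art.ofBase A)) (e' : h' ≫ x = ξ.f ≫ Art.specMap (Art.ofBase A))
      (_ : ∀ (U : X.affineOpens), ∃ hle : pr ⁻¹ᵁ U.1 ≤ h ⁻¹ᵁ U.1,
          h.appLE U.1 (pr ⁻¹ᵁ U.1) hle = CommRingCat.ofHom (twist ξ pr ε hε U.1 (E U.1) (hE U.1)))
      (_ : ∀ U : X.affineOpens, (U.2.preimage pr).fromSpec ≫ h' =
          Spec.map (CommRingCat.ofHom (twist ξ pr ε hε U.1 (-E U.1) (hE' U.1))) ≫ U.2.fromSpec),
      hsq.lift h ξ.f e ≫ hsq.lift h' ξ.f e' = 𝟙 ξ.total := by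
    intro E hE hE' h h' e e' hh hh'
    refine hsq.hom_ext ?_ (by rw [Category.assoc, hsq.lift_snd, hsq.lift_snd, Category.id_comp])
    rw [Category.assoc, hsq.lift_fst, Category.id_comp]
    refine Scheme.Cover.hom_ext (Scheme.openCoverOfIsOpenCover ξ.total (fun U : X.affineOpens => pr ⁻¹ᵁ U.1)
      (by rw [TopologicalSpace.IsOpenCover, ← Scheme.Hom.preimage_iSup, iSup_affineOpens_eq_top]; rfl)) _ _
      (fun (U : X.affineOpens) => ?_)
    change (pr ⁻¹ᵁ U.1).ι ≫ hsq.lift h ξ.f e ≫ h' = (pr ⁻¹ᵁ U.1).ι ≫ pr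
    obtain ⟨hle, hU⟩ := hh U
    have hlel : pr ⁻¹ᵁ U.1 ≤ hsq.lift h ξ.f e ⁻¹ᵁ (pr ⁻¹ᵁ U.1) := fun p hp => by
      show pr (hsq.lift h ξ.f e p) ∈ U.1
      rw [← Scheme.Hom.comp_apply, hsq.lift_fst]
      exact hle hp
    rw [← cancel_epi (U.2.preimage pr).isoSpec.inv, IsAffineOpen.isoSpec_inv_ι_assoc,
      IsAffineOpen.isoSpec_inv_ι_assoc,
      ← IsAffineOpen.SpecMap_appLE_fromSpec_assoc _ (U.2.preimage pr) (U.2.preimage pr) hlel, hh' U,
      ← Spec.map_comp_assoc, ← IsAffineOpen.SpecMap_appLE_fromSpec pr U.2 (U.2.preimage pr) le_rfl]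
    refine congrArg (fun m => Spec.map m ≫ _) (CommRingCat.hom_ext (RingHom.ext fun c => ?_))
    show (hsq.lift h ξ.f e).appLE _ _ hlel
        (pr.app U.1 c + ThickAff3.str ξ.f _ ε * pr.app U.1 ((-E U.1) c)) = pr.appLE U.1 _ le_rfl c
    have h1 : pr.appLE U.1 (pr ⁻¹ᵁ U.1) le_rfl ≫ (hsq.lift h ξ.f e).appLE (pr ⁻¹ᵁ U.1) (pr ⁻¹ᵁ U.1) hlel =
        CommRingCat.ofHom (twist ξ pr ε hε U.1 (E U.1) (hE U.1)) := by
      rw [Scheme.Hom.appLE_comp_appLE]
      simp only [hsq.lift_fst]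
      exact hU
    have h2 : ∀ t, (hsq.lift h ξ.f e).appLE _ _ hlel (pr.app U.1 t) =
        pr.app U.1 t + ThickAff3.str ξ.f _ ε * pr.app U.1 (E U.1 t) := fun t => by
      rw [Scheme.Hom.app_eq_appLE]
      exact congrArg (fun m : Γ(X, U.1) ⟶ Γ(ξ.total, pr ⁻¹ᵁ U.1) => m.hom t) h1 |>.trans (by
        show pr.app U.1 t + _ * pr.app U.1 (E U.1 t) = _
        rw [Scheme.Hom.app_eq_appLE])
    have h3 : (hsq.lift h ξ.f e).appLE _ _ hlel (ThickAff3.str ξ.f (pr ⁻¹ᵁ U.1) ε) = ThickAff3.str ξ.f _ ε := by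
      have h4 : ξ.f.appLE ⊤ (pr ⁻¹ᵁ U.1) le_top ≫ (hsq.lift h ξ.f e).appLE _ _ hlel =
          ξ.f.appLE ⊤ (pr ⁻¹ᵁ U.1) le_top := by
        rw [Scheme.Hom.appLE_comp_appLE]
        simp only [hsq.lift_snd]
      exact congrArg (fun m : Γ(Spec (CommRingCat.of A), ⊤) ⟶ Γ(ξ.total, pr ⁻¹ᵁ U.1) => m.hom
        ((Scheme.ΓSpecIso (CommRingCat.of A)).inv ε)) h4
    have hsq0 : ThickAff3.str ξ.f (pr ⁻¹ᵁ U.1) ε * ThickAff3.str ξ.f (pr ⁻¹ᵁ U.1) ε = 0 := by
      rw [← map_mul, hε, map_zero]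
    rw [map_add, map_mul, h2, h2, h3, AddMonoidHom.neg_apply, ← Scheme.Hom.app_eq_appLE, map_neg, map_neg, map_neg]
    linear_combination (-(pr.app U.1 (E U.1 (E U.1 c)))) * hsq0
  have hinv : φ ≫ φ' = 𝟙 _ := hcomp D hD hD' g g' hg1 hg1' hg3 hg'
  have hinv' : φ' ≫ φ = 𝟙 _ := hcomp (fun U => -D U) hD' (fun U a b => by
      simp only [neg_neg]; exact hD U a b) g' g hg1' hg1 hg3' (fun U => by
    simpa only [neg_neg] using hg U)
  have hi : ξ.i ≫ φ = ξ.i := by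
    refine hsq.hom_ext ?_ ?_
    · rw [Category.assoc, hsq.lift_fst, hg2, hipr]
    · rw [Category.assoc, hsq.lift_snd]
  have := hrig ⟨⟨φ, φ', hinv, hinv'⟩, hsq.lift_snd _ _ _, hi⟩
  have hgpr : g = pr := by
    rw [← hsq.lift_fst g ξ.f hg1, show hsq.lift g ξ.f hg1 = 𝟙 _ from this, Category.id_comp]
  obtain ⟨hle, hU⟩ := hg3 U
  have h5 : pr.app U.1 b + ThickAff3.str ξ.f (pr ⁻¹ᵁ U.1) ε * pr.app U.1 (D U.1 b) = pr.app U.1 b := by
    have := congrArg (fun m : Γ(X, U.1) ⟶ Γ(ξ.total, pr ⁻¹ᵁ U.1) => m.hom b) hU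
    subst hgpr
    rw [← Scheme.Hom.app_eq_appLE] at this
    exact this.symm
  rw [add_eq_left] at h5
  have h6 : pr.app U.1 (D U.1 b) ∈ (maximalIdeal A).map (ThickAff3.str ξ.f (pr ⁻¹ᵁ U.1)) := by
    refine ThickAff3.mem_map_of_str_mul_mem ξ.f (U.2.preimage pr) ⊥ _ ε (fun r hr => hann r ?_) ?_
    · simpa using hr
    · rw [h5]; exact zero_mem _
  rw [← ker_i_app ξ ⟨_, U.2.preimage pr⟩, RingHom.mem_ker] at h6
  have hle' : U.1 ≤ ξ.i ⁻¹ᵁ (pr ⁻¹ᵁ U.1) := fun p hp => by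
    show pr (ξ.i p) ∈ U.1
    rw [← Scheme.Hom.comp_apply, hipr]; exact hp
  have h7 : pr.appLE U.1 (pr ⁻¹ᵁ U.1) le_rfl ≫ ξ.i.appLE (pr ⁻¹ᵁ U.1) U.1 hle' = 𝟙 _ := by
    rw [Scheme.Hom.appLE_comp_appLE]
    simp only [hipr]
    exact appLE_id _ _
  have h8 := congrArg (fun m : Γ(X, U.1) ⟶ Γ(X, U.1) => m.hom (D U.1 b)) h7
  refine h8.symm.trans ?_
  show X.presheaf.map (homOfLE hle').op (ξ.i.app _ (pr.appLE U.1 (pr ⁻¹ᵁ U.1) le_rfl (D U.1 b))) = 0
  rw [← Scheme.Hom.app_eq_appLE]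
  exact (congrArg _ h6).trans (map_zero _)

end Groth.Agent.DefAut3
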