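import Groth.Agent.Lib.Omega12.Universal
import Groth.Agent.Lib.ThickAff3.Gamma
import Groth.Prelude.Def_CohB1

/-!
# Derivations of the structure sheaf and morphisms `Omega → O`
-/

set_option autoImplicit false
set_option backward.isDefEq.respectTransparency false
set_option backward.isDefEq.respectTransparency.types false
set_option linter.style.haveILetI false

universe u

open CategoryTheory CategoryTheory.Limits AlgebraicGeometry TopologicalSpace Opposite

namespace Groth.Agent.DefAut3

variable {k : Type u} [CommRing k] {X : Scheme.{u}} (x : X ⟶ Spec (CommRingCat.of k)) [QuasiSeparated x]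

/-- A derivation of functions given on a basis of affine opens is induced by a morphism `Omega → O`. -/
theorem exists_hom_of_der {P : X.affineOpens → Prop} (hP : KoszShH13.IsAffBasis P)
    (D : ∀ U : X.affineOpens, P U → Γ(X, U.1) → Γ(X, U.1))
    (hadd : ∀ U hU a b, D U hU (a + b) = D U hU a + D U hU b)
    (hmul : ∀ U hU a b, D U hU (a * b) = a * D U hU b + b * D U hU a)
    (hconst : ∀ U hU c, D U hU (ThickAff3.str x U.1 c) = 0)
    (hres : ∀ U hU V hV (h : V.1 ≤ U.1) a,
      X.presheaf.map (homOfLE h).op (D U hU a) = D V hV (X.presheaf.map (homOfLE h).op a)) :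
    ∃ α : Omega.sheaf x ⟶ Coh.structureModule X, ∀ U (hU : P U) s,
      α.app U.1 (OmegaSh.dSect x U.1 s) = D U hU s := by
  let M := Coh.structureModule X
  have key : ∀ U : X.affineOpens, P U → ∃ l : Γ(Omega.sheaf x, U.1) →+ Γ(M, U.1),
      (∀ (r : Γ(X, U.1)) (m : Γ(Omega.sheaf x, U.1)), l (r • m) = r • l m) ∧
        ∀ (hU : P U) s, l (OmegaSh.dSect x U.1 s) = D U hU s := by
    intro U hU
    let T := OmAff.toSect x ⊤ U.1 le_top
    haveI : IsIso T := (ConcreteCategory.isIso_iff_bijective T).2
      (Omega12.bijective_toSect x U.2 (isAffineOpen_top _) le_top)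
    let dd : (OmAff.sectMod M U.1).Derivation (x.appLE ⊤ U.1 le_top) :=
      ModuleCat.Derivation.mk (fun b => (D U hU b : Γ(M, U.1))) (hadd U hU) (hmul U hU) fun c => by
        have := hconst U hU ((Scheme.ΓSpecIso (CommRingCat.of k)).hom c)
        rw [show ThickAff3.str x U.1 ((Scheme.ΓSpecIso (CommRingCat.of k)).hom c) = x.appLE ⊤ U.1 le_top c from
          congrArg (fun φ : Γ(Spec (CommRingCat.of k), ⊤) ⟶ Γ(X, U.1) => φ.hom c)
            (Iso.hom_inv_id_assoc (Scheme.ΓSpecIso (CommRingCat.of k)) (x.appLE ⊤ U.1 le_top))] at this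
        exact this
    let L := inv T ≫ dd.desc
    refine ⟨L.hom.toAddMonoidHom, fun r m => L.hom.map_smul r m, fun _ s => ?_⟩
    show (inv T ≫ dd.desc) (OmegaSh.dSect x U.1 s) = _
    rw [← OmAff.toSect_d x ⊤ U.1 le_top s, ← CategoryTheory.comp_apply, IsIso.hom_inv_id_assoc]
    exact dd.desc_d s
  choose l hsmul hl using key
  obtain ⟨φ, hφ⟩ := KoszShH13.exists_glue hP l hsmul (fun U hU W hW hle m => by
    refine DFunLike.congr_fun (Omega12.sect_ext x U.2 (isAffineOpen_top _) le_top
      (X.presheaf.map (homOfLE hle).op).hom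
      ((M1.mres M hle).hom.comp (l U hU)) ((l W hW).comp (M1.mres (Omega.sheaf x) hle).hom) ?_ ?_ ?_) m
    · intro r m
      show M1.mres M hle (l U hU (r • m)) = _
      rw [hsmul, M1.mres_smul]
      rfl
    · intro r m
      show l W hW (M1.mres _ hle (r • m)) = _
      rw [M1.mres_smul, hsmul]
      rfl
    · intro b
      show M1.mres M hle (l U hU (OmegaSh.dSect x U.1 b)) = l W hW (M1.mres _ hle (OmegaSh.dSect x U.1 b))
      rw [hl U hU hU, show M1.mres (Omega.sheaf x) hle (OmegaSh.dSect x U.1 b) =
        OmegaSh.dSect x W.1 (X.presheaf.map (homOfLE hle).op b) from (OmegaSh.dSect_map x hle b).symm, hl W hW hW]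
      exact hres U hU W hW hle b)
  exact ⟨φ, fun U hU s => by rw [hφ U hU, hl U hU hU]⟩

/-- A morphism out of the sheaf of differentials vanishing on all differentials of affine opens is zero. -/
theorem eq_zero_of_affine (α : Omega.sheaf x ⟶ Coh.structureModule X)
    (h : ∀ U : X.affineOpens, ∀ s, α.app U.1 (OmegaSh.dSect x U.1 s) = 0) : α = 0 := by
  refine KoszShH13.hom_ext_basis KoszShH13.isAffBasis_top fun U _ m => ?_
  exact DFunLike.congr_fun (Omega12.sect_ext x U.2 (isAffineOpen_top _) le_top (RingHom.id _) (α.app U.1).hom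
    ((0 : Omega.sheaf x ⟶ Coh.structureModule X).app U.1).hom
    (fun r y => Scheme.Modules.Hom.app_smul α r y) (fun r y => Scheme.Modules.Hom.app_smul _ r y)
    fun b => h U b) m

end Groth.Agent.DefAut3
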