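import Groth.Agent.Lib.DefAut3.Der
import Groth.Prelude.Def_ArtFun4
import Mathlib.AlgebraicGeometry.Morphisms.ClosedImmersion

/-!
# Rigidity of automorphisms of deformations without infinitesimal automorphisms
-/

set_option autoImplicit false
set_option linter.style.haveILetI false

universe u

open CategoryTheory CategoryTheory.Limits AlgebraicGeometry TopologicalSpace IsLocalRing

namespace Groth.Agent.DefAut3

open ArtFun

variable {k : Type u} [Field k] {X : Scheme.{u}} {x : X ⟶ Spec (CommRingCat.of k)} {A : Art k k}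
  (ξ : DefSch X x A)

theorem surjective_specRes (A : Art k k) : Surjective (Art.specRes A) := by
  constructor
  intro p
  refine ⟨IsLocalRing.closedPoint k, ?_⟩
  haveI := IsArtinianRing.isMaximal_of_isPrime p.asIdeal
  haveI := IsArtinianRing.isMaximal_of_isPrime (((Art.specRes A) (IsLocalRing.closedPoint k)).asIdeal)
  exact PrimeSpectrum.ext ((IsLocalRing.eq_maximalIdeal inferInstance).trans
    (IsLocalRing.eq_maximalIdeal (I := p.asIdeal) inferInstance).symm)

theorem isClosedImmersion_i : IsClosedImmersion ξ.i := by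
  haveI : IsClosedImmersion (Art.specRes A) :=
    IsClosedImmersion.spec_of_surjective _ A.res_surjective
  exact MorphismProperty.of_isPullback ξ.isPullback.flip (inferInstance : IsClosedImmersion (Art.specRes A))

theorem surjective_i : Surjective ξ.i := by
  haveI := surjective_specRes A
  exact MorphismProperty.of_isPullback ξ.isPullback.flip (inferInstance : Surjective (Art.specRes A))

theorem i_app_str (W : ξ.total.Opens) (c : A) :
    ξ.i.app W (ThickAff3.str ξ.f W c) = ThickAff3.str x (ξ.i ⁻¹ᵁ W) (A.res c) := by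
  rw [(ThickAff3.fibre_data ξ.f A.res.toRingHom A.res_surjective ξ.isPullback).1 W c,
    ← ThickAff3.res_str x (le_top : ξ.i ⁻¹ᵁ W ≤ ⊤)]
  refine congrArg _ ?_
  show ((Scheme.ΓSpecIso (CommRingCat.of k)).inv ≫ x.appTop).hom _ = _
  rw [ThickAff3.str, Scheme.Hom.appLE, Scheme.Hom.appTop]
  simp

theorem ker_i_app (W : ξ.total.affineOpens) :
    RingHom.ker (ξ.i.app W.1).hom = (maximalIdeal A).map (ThickAff3.str ξ.f W.1) := by
  have hkq : RingHom.ker A.res.toRingHom = maximalIdeal A :=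
    IsLocalRing.eq_maximalIdeal (RingHom.ker_isMaximal_of_surjective _ A.res_surjective)
  refine le_antisymm (hkq ▸ (ThickAff3.fibre_data ξ.f A.res.toRingHom A.res_surjective ξ.isPullback).2 W) ?_
  refine Ideal.map_le_iff_le_comap.2 fun c hc => ?_
  rw [Ideal.mem_comap, RingHom.mem_ker]
  refine (i_app_str ξ W.1 c).trans ?_
  rw [show A.res c = 0 from hkq.ge hc, map_zero]

theorem app_i_surjective (W : ξ.total.affineOpens) : Function.Surjective (ξ.i.app W.1) := by
  haveI := isClosedImmersion_i ξ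
  exact ξ.i.app_surjective W.1 W.2

/-- Without derivations of the structure sheaf, deformations have no automorphisms but the identity. -/
theorem iso_eq_id [QuasiSeparated x] (h : Subsingleton (Omega.sheaf x ⟶ Coh.structureModule X))
    (e : ξ.Iso ξ) : e.iso.hom = 𝟙 ξ.total := by
  haveI := isClosedImmersion_i ξ
  haveI := surjective_i ξ
  let φ := e.iso.hom
  have hbase : ∀ p, φ p = p := fun p => by
    obtain ⟨q, rfl⟩ := ξ.i.surjective p
    exact congrArg (fun m : X ⟶ ξ.total => m q) e.i_hom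
  have hle : ∀ W : ξ.total.Opens, W ≤ φ ⁻¹ᵁ W := fun W p hp => by
    show φ p ∈ W
    rw [hbase]; exact hp
  let θ := fun W : ξ.total.Opens => φ.appLE W W (hle W)
  have hθstr : ∀ W c, θ W (ThickAff3.str ξ.f W c) = ThickAff3.str ξ.f W c := by
    intro W c
    have h1 : ξ.f.appLE ⊤ W le_top ≫ φ.appLE W W (hle W) = ξ.f.appLE ⊤ W le_top := by
      rw [Scheme.Hom.appLE_comp_appLE]
      simp only [show φ ≫ ξ.f = ξ.f from e.hom_f]
    exact congrArg (fun m : Γ(Spec (CommRingCat.of A), ⊤) ⟶ Γ(ξ.total, W) => m.hom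
      ((Scheme.ΓSpecIso (CommRingCat.of A)).inv c)) h1
  have hθi : ∀ W b, ξ.i.app W (θ W b) = ξ.i.app W b := by
    intro W b
    have h1 : φ.appLE W W (hle W) ≫ ξ.i.appLE W (ξ.i ⁻¹ᵁ W) le_rfl = ξ.i.appLE W (ξ.i ⁻¹ᵁ W) le_rfl := by
      rw [Scheme.Hom.appLE_comp_appLE]
      simp only [show ξ.i ≫ φ = ξ.i from e.i_hom]
    rw [← Scheme.Hom.app_eq_appLE] at h1
    exact congrArg (fun m : Γ(ξ.total, W) ⟶ Γ(X, ξ.i ⁻¹ᵁ W) => m.hom b) h1
  have hθres : ∀ {W V : ξ.total.Opens} (hVW : V ≤ W) b,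
      ξ.total.presheaf.map (homOfLE hVW).op (θ W b) = θ V (ξ.total.presheaf.map (homOfLE hVW).op b) := by
    intro W V hVW b
    have h1 : φ.appLE W W (hle W) ≫ ξ.total.presheaf.map (homOfLE hVW).op =
        ξ.total.presheaf.map (homOfLE hVW).op ≫ φ.appLE V V (hle V) := by
      rw [Scheme.Hom.appLE_map, Scheme.Hom.map_appLE]
    exact congrArg (fun m : Γ(ξ.total, W) ⟶ Γ(ξ.total, V) => m.hom b) h1
  let S : Set (Ideal A) := {J | J ≤ maximalIdeal A ∧ ∀ (W : ξ.total.affineOpens) b,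
    θ W.1 b - b ∈ J.map (ThickAff3.str ξ.f W.1)}
  have hS : S.Nonempty := ⟨maximalIdeal A, le_rfl, fun W b => by
    rw [← ker_i_app ξ W, RingHom.mem_ker, map_sub]
    exact sub_eq_zero.2 (hθi W.1 b)⟩
  obtain ⟨J, ⟨hJm, hJ⟩, hmin⟩ := (wellFounded_lt (α := Ideal A)).has_min S hS
  have hJ0 : J = ⊥ := by
    by_contra hne
    have hlt : maximalIdeal A * J < J := lt_of_le_of_ne Ideal.mul_le_right fun h' => hne (by
      refine Submodule.eq_bot_of_le_smul_of_le_jacobson_bot (maximalIdeal A) J (IsNoetherian.noetherian J)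
        (le_of_eq h'.symm) (maximalIdeal_le_jacobson _))
    obtain ⟨J', ⟨hmJ', hJ'J⟩, hmax⟩ := (wellFounded_gt (α := Ideal A)).has_min
      {J' : Ideal A | maximalIdeal A * J ≤ J' ∧ J' < J} ⟨_, le_rfl, hlt⟩
    obtain ⟨s, hsJ, hsJ'⟩ := SetLike.exists_of_lt hJ'J
    have hsup : J = J' ⊔ Ideal.span {s} := by
      by_contra h'
      exact hmax (J' ⊔ Ideal.span {s}) ⟨hmJ'.trans le_sup_left,
        lt_of_le_of_ne (sup_le hJ'J.le ((Ideal.span_singleton_le_iff_mem _).2 hsJ)) (Ne.symm h')⟩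
        (left_lt_sup.2 fun h'' => hsJ' (h'' (Ideal.mem_span_singleton_self s)))
    have hcolon : ∀ r, s * r ∈ J' → r ∈ maximalIdeal A := fun r hr => by
      by_contra h'
      obtain ⟨v, hv⟩ := (IsLocalRing.notMem_maximalIdeal.1 h').exists_left_inv
      have : s = v * (s * r) := by linear_combination (-s) * hv
      exact hsJ' (this ▸ J'.mul_mem_left _ hr)
    let R : ∀ W : ξ.total.affineOpens, Γ(ξ.total, W.1) → Γ(ξ.total, W.1) → Prop := fun W b a =>
      θ W.1 b - b - ThickAff3.str ξ.f W.1 s * a ∈ J'.map (ThickAff3.str ξ.f W.1)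
    have hex : ∀ W b, ∃ a, R W b a := by
      intro W b
      have h1 := hJ W b
      rw [hsup, Ideal.map_sup, Ideal.map_span, Set.image_singleton] at h1
      obtain ⟨y, hy, z, hz, hyz⟩ := Submodule.mem_sup.1 h1
      obtain ⟨a, rfl⟩ := Ideal.mem_span_singleton'.1 hz
      exact ⟨a, by show θ W.1 b - b - _ ∈ _; rwa [← hyz, mul_comm a, add_sub_cancel_right]⟩
    have hsm : ∀ (W : ξ.total.affineOpens) t, t ∈ (maximalIdeal A).map (ThickAff3.str ξ.f W.1) →
        ThickAff3.str ξ.f W.1 s * t ∈ J'.map (ThickAff3.str ξ.f W.1) := fun W t ht => by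
      refine Ideal.map_mono hmJ' ?_
      rw [Ideal.map_mul, mul_comm (ThickAff3.str ξ.f W.1 s)]
      exact Ideal.mul_mem_mul ht (Ideal.mem_map_of_mem _ hsJ)
    have huniq : ∀ W b b' a a', R W b a → R W b' a' → ξ.i.app W.1 b = ξ.i.app W.1 b' →
        ξ.i.app W.1 a = ξ.i.app W.1 a' := by
      intro W b b' a a' ha ha' hb
      have hbm : b - b' ∈ (maximalIdeal A).map (ThickAff3.str ξ.f W.1) := by
        rw [← ker_i_app ξ W, RingHom.mem_ker, map_sub]
        exact sub_eq_zero.2 hb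
      have h1 : θ W.1 (b - b') - (b - b') ∈ J'.map (ThickAff3.str ξ.f W.1) := by
        refine Submodule.span_induction (p := fun t _ => θ W.1 t - t ∈ J'.map (ThickAff3.str ξ.f W.1))
          ?_ ?_ ?_ ?_ hbm
        · rintro _ ⟨c, hc, rfl⟩
          rw [hθstr, sub_self]
          exact zero_mem _
        · simp
        · intro t t' _ _ ht ht'
          rw [map_add, add_sub_add_comm]
          exact add_mem ht ht'
        · intro r t htm ht
          have htm' : t ∈ (maximalIdeal A).map (ThickAff3.str ξ.f W.1) := htm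
          rw [smul_eq_mul, map_mul, show θ W.1 r * θ W.1 t - r * t = θ W.1 r * (θ W.1 t - t) + t * (θ W.1 r - r) by ring]
          refine add_mem (Ideal.mul_mem_left _ _ ht) (Ideal.map_mono hmJ' ?_)
          rw [Ideal.map_mul]
          exact Ideal.mul_mem_mul htm' (hJ W r)
      refine sub_eq_zero.1 ?_
      rw [← map_sub, ← RingHom.mem_ker, ker_i_app]
      refine ThickAff3.mem_map_of_str_mul_mem ξ.f W.2 J' _ s hcolon ?_
      have h2 := sub_mem (sub_mem h1 ha) (neg_mem ha')
      rw [map_sub] at h2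
      have h3 : (θ W.1 b - θ W.1 b' - (b - b') - (θ W.1 b - b - ThickAff3.str ξ.f W.1 s * a) -
          -(θ W.1 b' - b' - ThickAff3.str ξ.f W.1 s * a')) = ThickAff3.str ξ.f W.1 s * (a - a') := by ring
      rwa [h3] at h2
    let P : X.affineOpens → Prop := fun U => ∃ W : ξ.total.affineOpens, ξ.i ⁻¹ᵁ W.1 = U.1
    have hP : KoszShH13.IsAffBasis P := fun O p hp => by
      obtain ⟨O', hO', hO''⟩ := ξ.i.isClosedEmbedding.isInducing.isOpen_iff.1 O.2
      obtain ⟨W, hW, hpW, hWO⟩ := exists_isAffineOpen_mem_and_subset (U := ⟨O', hO'⟩) (x := ξ.i p) (by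
        show p ∈ ξ.i ⁻¹' O'
        rw [hO'']
        exact hp)
      exact ⟨⟨ξ.i ⁻¹ᵁ W, hW.preimage ξ.i⟩, ⟨⟨W, hW⟩, rfl⟩, hpW, fun q hq => hO''.le (hWO hq)⟩
    choose w hw using fun (U : X.affineOpens) (hU : P U) => hU
    have hD : ∀ (U : X.affineOpens) (hU : P U) (u : Γ(X, U.1)), ∃ v : Γ(X, U.1),
        ∀ b a, R (w U hU) b a → ξ.i.appLE (w U hU).1 U.1 (hw U hU).ge b = u →
          ξ.i.appLE (w U hU).1 U.1 (hw U hU).ge a = v := by
      intro U hU u
      have hinj : ∀ t t', ξ.i.appLE (w U hU).1 U.1 (hw U hU).ge t = ξ.i.appLE (w U hU).1 U.1 (hw U hU).ge t' →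
          ξ.i.app (w U hU).1 t = ξ.i.app (w U hU).1 t' := fun t t' h' => by
        haveI : IsIso (homOfLE (hw U hU).ge) := ⟨homOfLE (hw U hU).le, Subsingleton.elim _ _, Subsingleton.elim _ _⟩
        exact (ConcreteCategory.bijective_of_isIso (X.presheaf.map (homOfLE (hw U hU).ge).op)).1 h'
      obtain ⟨v0, hv0⟩ : ∃ b, ξ.i.appLE (w U hU).1 U.1 (hw U hU).ge b = u := by
        haveI : IsIso (homOfLE (hw U hU).ge) := ⟨homOfLE (hw U hU).le, Subsingleton.elim _ _, Subsingleton.elim _ _⟩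
        exact (ConcreteCategory.bijective_of_isIso (X.presheaf.map (homOfLE (hw U hU).ge).op)).2.comp
          (app_i_surjective ξ (w U hU)) u
      obtain ⟨a0, ha0⟩ := hex (w U hU) v0
      refine ⟨ξ.i.appLE (w U hU).1 U.1 (hw U hU).ge a0, fun b a hab hb => ?_⟩
      exact congrArg (X.presheaf.map (homOfLE (hw U hU).ge).op)
        (huniq _ b v0 a a0 hab ha0 (hinj _ _ (hb.trans hv0.symm)))
    choose D hD using hD
    have hlift : ∀ (U : X.affineOpens) (hU : P U) (u : Γ(X, U.1)), ∃ b a, R (w U hU) b a ∧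
        ξ.i.appLE (w U hU).1 U.1 (hw U hU).ge b = u := by
      intro U hU u
      haveI : IsIso (homOfLE (hw U hU).ge) := ⟨homOfLE (hw U hU).le, Subsingleton.elim _ _, Subsingleton.elim _ _⟩
      obtain ⟨b, hb⟩ := (ConcreteCategory.bijective_of_isIso (X.presheaf.map (homOfLE (hw U hU).ge).op)).2.comp
        (app_i_surjective ξ (w U hU)) u
      obtain ⟨a, ha⟩ := hex (w U hU) b
      exact ⟨b, a, ha, hb⟩
    have hDval : ∀ (U : X.affineOpens) (hU : P U) b a, R (w U hU) b a →
        D U hU (ξ.i.appLE (w U hU).1 U.1 (hw U hU).ge b) = ξ.i.appLE (w U hU).1 U.1 (hw U hU).ge a :=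
      fun U hU b a h' => (hD U hU _ b a h' rfl).symm
    obtain ⟨α, hα⟩ := exists_hom_of_der x hP D (fun U hU u u' => by
        obtain ⟨b, a, ha, rfl⟩ := hlift U hU u
        obtain ⟨b', a', ha', rfl⟩ := hlift U hU u'
        rw [← map_add, hDval U hU b a ha, hDval U hU b' a' ha', ← map_add]
        refine hDval U hU _ _ ?_
        show _ - _ - _ ∈ _
        convert add_mem ha ha' using 1
        rw [map_add]; ring)
      (fun U hU u u' => by
        obtain ⟨b, a, ha, rfl⟩ := hlift U hU u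
        obtain ⟨b', a', ha', rfl⟩ := hlift U hU u'
        rw [← map_mul, hDval U hU b a ha, hDval U hU b' a' ha', ← map_mul, ← map_mul, ← map_add]
        refine hDval U hU _ _ ?_
        show _ - _ - _ ∈ _
        have h2 : (θ (w U hU).1 b - b) * (θ (w U hU).1 b' - b') ∈ J'.map (ThickAff3.str ξ.f (w U hU).1) := by
          refine Ideal.map_mono hmJ' ?_
          rw [Ideal.map_mul]
          exact Ideal.mul_mem_mul (Ideal.map_mono hJm (hJ _ b)) (hJ _ b')
        convert add_mem (add_mem (Ideal.mul_mem_left _ b ha') (Ideal.mul_mem_left _ b' ha)) h2 using 1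
        rw [map_mul]; ring)
      (fun U hU c => by
        have h1 : ξ.i.appLE (w U hU).1 U.1 (hw U hU).ge (ThickAff3.str ξ.f (w U hU).1 (algebraMap k A c)) =
            ThickAff3.str x U.1 c := by
          show X.presheaf.map (homOfLE (hw U hU).ge).op (ξ.i.app _ _) = _
          rw [i_app_str, A.res.commutes]
          exact ThickAff3.res_str x (hw U hU).ge c
        rw [← h1, hDval U hU _ 0 (by show _ - _ - _ ∈ _; rw [hθstr, sub_self, mul_zero, sub_zero]; exact zero_mem _),
          map_zero])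
      (fun U hU V hV hVU u => by
        obtain ⟨b, a, ha, rfl⟩ := hlift U hU u
        have hWW : (w V hV).1 ≤ (w U hU).1 := fun q hq => by
          obtain ⟨p, rfl⟩ := ξ.i.surjective q
          exact (hw U hU).ge (hVU ((hw V hV).le hq))
        have hr : ∀ t, X.presheaf.map (homOfLE hVU).op (ξ.i.appLE (w U hU).1 U.1 (hw U hU).ge t) =
            ξ.i.appLE (w V hV).1 V.1 (hw V hV).ge (ξ.total.presheaf.map (homOfLE hWW).op t) := fun t => by
          rw [← ConcreteCategory.comp_apply, ← ConcreteCategory.comp_apply, Scheme.Hom.appLE_map,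
            Scheme.Hom.map_appLE]
        rw [hDval U hU b a ha, hr, hr]
        refine (hDval V hV _ _ ?_).symm
        show _ - _ - _ ∈ _
        have h1 := Ideal.mem_map_of_mem (ξ.total.presheaf.map (homOfLE hWW).op).hom ha
        rw [Ideal.map_map] at h1
        have h2 : (ξ.total.presheaf.map (homOfLE hWW).op).hom.comp (ThickAff3.str ξ.f (w U hU).1) =
            ThickAff3.str ξ.f (w V hV).1 := RingHom.ext fun c => ThickAff3.res_str ξ.f hWW c
        rw [h2] at h1
        rw [← hθres hWW b, ← h2, RingHom.comp_apply]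
        simpa only [map_sub, map_mul, h2] using h1)
    refine hmin J' ⟨hJ'J.le.trans hJm, fun W b => ?_⟩ hJ'J
    obtain ⟨a, ha⟩ := hex W b
    have hU : P ⟨ξ.i ⁻¹ᵁ W.1, W.2.preimage ξ.i⟩ := ⟨W, rfl⟩
    have hwW : w ⟨_, W.2.preimage ξ.i⟩ hU = W := Subtype.ext (TopologicalSpace.Opens.ext
      (ξ.i.surjective.preimage_injective (congrArg (fun O : X.Opens => (O : Set X)) (hw _ hU))))
    have h0 : ∀ (W' : ξ.total.affineOpens) (e' : W' = W) (hle' : ξ.i ⁻¹ᵁ W.1 ≤ ξ.i ⁻¹ᵁ W'.1),
        (∀ b a, R W' b a → D ⟨_, W.2.preimage ξ.i⟩ hU (ξ.i.appLE W'.1 (ξ.i ⁻¹ᵁ W.1) hle' b) =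
          ξ.i.appLE W'.1 (ξ.i ⁻¹ᵁ W.1) hle' a) → ξ.i.app W.1 a = 0 := by
      rintro W' rfl hle' h'
      have h1 := h' b a ha
      rw [← hα, Subsingleton.elim α 0] at h1
      rw [Scheme.Hom.app_eq_appLE]
      exact h1.symm
    have ha0 := h0 _ hwW (hw _ hU).ge (hDval _ hU)
    rw [show θ W.1 b - b = (θ W.1 b - b - ThickAff3.str ξ.f W.1 s * a) + ThickAff3.str ξ.f W.1 s * a by ring]
    exact add_mem ha (hsm W a (by rw [← ker_i_app ξ W, RingHom.mem_ker]; exact ha0))
  refine Scheme.Cover.hom_ext (Scheme.openCoverOfIsOpenCover ξ.total (fun W : ξ.total.affineOpens => W.1)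
    (iSup_affineOpens_eq_top _)) _ _ (fun (W : ξ.total.affineOpens) => ?_)
  change W.1.ι ≫ e.iso.hom = W.1.ι ≫ 𝟙 _
  rw [← cancel_epi W.2.isoSpec.inv, IsAffineOpen.isoSpec_inv_ι_assoc, IsAffineOpen.isoSpec_inv_ι_assoc,
    Category.comp_id, ← IsAffineOpen.SpecMap_appLE_fromSpec φ W.2 W.2 (hle W.1),
    show φ.appLE W.1 W.1 (hle W.1) = 𝟙 _ from CommRingCat.hom_ext (RingHom.ext fun b => by
      have := hJ W b
      rw [hJ0, Ideal.map_bot, Ideal.mem_bot, sub_eq_zero] at this
      exact this), Spec.map_id, Category.id_comp]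

end Groth.Agent.DefAut3
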